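import Mathlib

open TensorProduct

universe u

namespace FlatInfLib

variable {R : Type u} [CommRing R] (M : Type u) [AddCommGroup M] [Module R M]

/-- If `M/IM` is flat over `R/I`, then tensoring an injection into `R/I` with `M` stays injective. -/
theorem rTensor_injective (I : Ideal R) [Module.Flat (R ⧸ I) ((R ⧸ I) ⊗[R] M)]
    {K : Type u} [AddCommGroup K] [Module R K] (f : K →ₗ[R] R ⧸ I) (hf : Function.Injective f) :
    Function.Injective (f.rTensor M) := by
  let P : Ideal (R ⧸ I) :=
    { carrier := LinearMap.range f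
      add_mem' := fun ha hb => (LinearMap.range f).add_mem ha hb
      zero_mem' := (LinearMap.range f).zero_mem
      smul_mem' := fun c x hx => by
        obtain ⟨c, rfl⟩ := Ideal.Quotient.mk_surjective c
        exact (LinearMap.range f).smul_mem c hx }
  let g : K →ₗ[R] P :=
    { toFun := fun k => ⟨f k, ⟨k, rfl⟩⟩
      map_add' := fun a b => Subtype.ext (map_add f a b)
      map_smul' := fun a b => Subtype.ext (map_smul f a b) }
  have hg : Function.Bijective g :=
    ⟨fun a b h => hf (congrArg Subtype.val h), fun y => by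
      obtain ⟨k, hk⟩ := y.2
      exact ⟨k, Subtype.ext hk⟩⟩
  have e : f = (P.subtype.restrictScalars R) ∘ₗ g := rfl
  rw [e, LinearMap.rTensor_comp, LinearMap.coe_comp]
  have hgi : Function.Injective (g.rTensor M) :=
    (LinearEquiv.rTensor M (LinearEquiv.ofBijective g hg)).injective
  refine Function.Injective.comp ?_ hgi
  let e1 := AlgebraTensorModule.cancelBaseChange R (R ⧸ I) (R ⧸ I) P M
  let e2 := AlgebraTensorModule.cancelBaseChange R (R ⧸ I) (R ⧸ I) (R ⧸ I) M
  have hcomm : ∀ x, (P.subtype.restrictScalars R).rTensor M x =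
      e2 ((P.subtype).rTensor ((R ⧸ I) ⊗[R] M) (e1.symm x)) := by
    intro x
    induction x using TensorProduct.induction_on with
    | zero => simp
    | tmul a m => simp [e1, e2]
    | add a b ha hb => simp [map_add, ha, hb]
  intro x y h
  rw [hcomm, hcomm] at h
  exact e1.symm.injective (Module.Flat.rTensor_preserves_injective_linearMap _
    (Submodule.injective_subtype P) (e2.injective h))

theorem flat_inf (I₁ I₂ : Ideal R) [Module.Flat (R ⧸ I₁) ((R ⧸ I₁) ⊗[R] M)]
    [Module.Flat (R ⧸ I₂) ((R ⧸ I₂) ⊗[R] M)] :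
    Module.Flat (R ⧸ (I₁ ⊓ I₂)) ((R ⧸ (I₁ ⊓ I₂)) ⊗[R] M) := by
  set I := I₁ ⊓ I₂
  let q₁ : (R ⧸ I) →ₗ[R] R ⧸ I₁ := (Ideal.Quotient.factorₐ R (inf_le_left : I ≤ I₁)).toLinearMap
  let q₂ : (R ⧸ I) →ₗ[R] R ⧸ I₂ := (Ideal.Quotient.factorₐ R (inf_le_right : I ≤ I₂)).toLinearMap
  rw [Module.Flat.iff_rTensor_injective]
  intro J
  intro _
  let ι : J →ₗ[R] R ⧸ I := (J.subtype).restrictScalars R
  have hinj : Function.Injective (ι.rTensor M) := by
    rw [injective_iff_map_eq_zero]
    intro z hz
    have hz0 := hz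
    let g := q₁ ∘ₗ ι
    let K := LinearMap.ker g
    let j := LinearMap.range g
    have hj : (g.rangeRestrict).rTensor M z = 0 := by
      refine rTensor_injective M I₁ j.subtype (Submodule.injective_subtype j) ?_
      rw [map_zero, ← LinearMap.comp_apply, ← LinearMap.rTensor_comp, LinearMap.subtype_comp_codRestrict,
        LinearMap.rTensor_comp_apply, hz0, map_zero]
    have hex : Function.Exact K.subtype g.rangeRestrict := by
      rw [LinearMap.exact_iff, LinearMap.ker_rangeRestrict, Submodule.range_subtype]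
    obtain ⟨w, rfl⟩ := (rTensor_exact M hex g.surjective_rangeRestrict z).mp hj
    have hK : Function.Injective (q₂ ∘ₗ ι ∘ₗ K.subtype) := by
      rw [injective_iff_map_eq_zero]
      rintro ⟨x, hx⟩ h2
      have h1 : q₁ (ι x) = 0 := hx
      have h2' : q₂ (ι x) = 0 := h2
      apply Subtype.ext
      apply Subtype.ext
      obtain ⟨r, hr⟩ := Ideal.Quotient.mk_surjective (x : R ⧸ I)
      change (x : R ⧸ I) = 0
      rw [← hr] 
      simp only [ι, LinearMap.restrictScalars_apply, Submodule.coe_subtype, ← hr] at h1 h2'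
      exact Ideal.Quotient.eq_zero_iff_mem.mpr
        ⟨Ideal.Quotient.eq_zero_iff_mem.mp h1, Ideal.Quotient.eq_zero_iff_mem.mp h2'⟩
    have hw : w = 0 := by
      refine rTensor_injective M I₂ _ hK ?_
      rw [map_zero, LinearMap.rTensor_comp_apply, LinearMap.rTensor_comp_apply, hz0, map_zero]
    rw [hw, map_zero]
  let e1 := AlgebraTensorModule.cancelBaseChange R (R ⧸ I) (R ⧸ I) J M
  let e2 := AlgebraTensorModule.cancelBaseChange R (R ⧸ I) (R ⧸ I) (R ⧸ I) M
  have hcomm : ∀ x, ι.rTensor M (e1 x) = e2 ((J.subtype).rTensor ((R ⧸ I) ⊗[R] M) x) := by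
    intro x
    induction x using TensorProduct.induction_on with
    | zero => simp
    | tmul a m =>
      induction m using TensorProduct.induction_on with
      | zero => simp
      | tmul r m => simp [e1, e2, ι]
      | add p q hp hq => simp only [tmul_add, map_add, hp, hq]
    | add a b ha hb => simp [map_add, ha, hb]
  intro x y h
  refine e1.injective (hinj ?_)
  rw [hcomm, hcomm, h]

end FlatInfLib
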